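import Cfsg.Agent.Lib.Helper37.Out.Tab

set_option autoImplicit false
set_option maxRecDepth 100000

/-!
# Certificate tables for the Schur multiplier of `J₃` (helper37)

Matrices (packed, with sift certificates) of: an elementary abelian subgroup `E₁` of order 16, an
element of order 3 of its normaliser acting fixed-point-freely on it, an involution swapping `E₁`
with a second such subgroup, two generators of a Sylow 3-subgroup, an element of order 8 normalising
it, an element of order 5; and the boolean checks of the relations used in `S2041`.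
-/

namespace Cfsg.Agent.Lib.Helper37.Mult

open Cfsg.Agent.Lib.Helper37.J3 Cfsg.Agent.Lib.Helper37.Inv Cfsg.Agent.Lib.Helper37.Out

noncomputable def MT_m0 : N16 (N16 ℕ) :=
  ⟨⟨(nat_lit 258890498622892791849729617747559659374767187876527991874245276860486900449174159561995442267503166289059838789794380305694370290780032925765629264674794678205048608590639169374238665487078685807678019429993327472195638482726052698460735092263645096811402760830313168793105411220107839238512036454652201187854863506944876373360398379364927068818718223166384063128856686639030348241429763306907279066451963461894725465002985996684793368748568425603138333202646154925108652144431212178169682945665366849520180920494803672530089195611538453689347962977914348495809402080862881310840905822155147819410774085044069638683309169118127193265817935754328152074600046764722866919361361705171070281326321198344610781751144737988150610675423237602197925329189333257031630735158103177463774052593611620027236532622357432060734069887399842988745959021516268018695559905668580331770002076832187446614594622152078416613285550084634164537081100423261650273145196147246170025394849797395805278720570303317263581387454933909384635521788755534091528774102609593291985388346600524094387927405917234791892917189382489513393853238249957622920879461252071615365129448408436840796049873460355120815181682021412096950470677690562231898875360276939458260350097174734091571478431923184341027955693148451202022825217724841074332620927419512551541046548005932758740155100153766548903527684285660872148551106549417014996844262457345),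 0, 0, 0, 0, 0, 0, 0, 0, 0, 0, 0, 0, 0, 0, 0⟩, Z1, Z1, Z1, Z1, Z1, Z1, Z1, Z1, Z1, Z1, Z1, Z1, Z1, Z1, Z1⟩

noncomputable def MT : T3 :=
  ⟨MT_m0, Z2, Z2, Z2, Z2, Z2, Z2, Z2, Z2, Z2, Z2, Z2, Z2, Z2, Z2, Z2⟩

/-- the 24 certificate matrices: 0..15 the elementary abelian group `E₁`, 16 the element of order 3,
17 the involution swapping `E₁` and `E₂`, 18, 19 generators of a Sylow 3-subgroup, 20 an element of
order 8 normalising it, 21, 22 the inverses of 18, 19, 23 an element of order 5 -/
noncomputable def MC (k : ℕ) : M9 := unpack (MT.ent 194 k)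
noncomputable def msf (k : ℕ) : ℕ := Nat.land (Nat.shiftRight (MT.ent 194 k) 162) 4294967295
noncomputable def gamLit : ℕ := nat_lit 6679523798487891600
noncomputable def tauLit : ℕ := nat_lit 10450612356325644672
noncomputable def nuLit : ℕ := nat_lit 168021320926267667612251224061793030039593091969386599588694131723134086027526822655840323019341216194767623866165858402979163891821014730212921078823247951468029526316151577256128487204170014255161660010794591174395066259371240394722912618644896861165580300226398501978935896567018397657678230563104631304720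
noncomputable def gamN (i : ℕ) : ℕ := Nat.land (Nat.shiftRight gamLit (Nat.mul 4 i)) 15
noncomputable def tauN (i : ℕ) : ℕ := Nat.land (Nat.shiftRight tauLit (Nat.mul 4 i)) 15
noncomputable def nuN (j i : ℕ) : ℕ :=
  Nat.land (Nat.shiftRight nuLit (Nat.mul 4 (Nat.add (Nat.mul 16 j) i))) 15

/-- equal up to a nonzero scalar -/
def scEq (M M' : M9) : Bool := M9.beq M' M || M9.beq M' (scM 2 M) || M9.beq M' (scM 3 M)

noncomputable def chkS (k : ℕ) : Bool := sftOK (MC k) (msf k)

noncomputable def chkE1 (i : ℕ) : Bool := (!scalEq ID (MC i)) || Nat.beq i 0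

noncomputable def chkMul (i j : ℕ) : Bool := scEq (mm (MC i) (MC j)) (MC (Nat.xor i j))

noncomputable def chkC (i : ℕ) : Bool :=
  scEq (mm (MC 16) (MC i)) (mm (MC (gamN i)) (MC 16)) && Nat.blt (gamN i) 16

/-- the conjugate of `E₁`'s `j`-th element by the involution -/
noncomputable def FJ (j : ℕ) : M9 := mm (MC 17) (mm (MC j) (MC 17))

noncomputable def chkNu (j i : ℕ) : Bool :=
  scEq (mm (FJ j) (MC i)) (mm (MC (nuN j i)) (FJ j)) && Nat.blt (nuN j i) 16

noncomputable def chkTau (j : ℕ) : Bool :=
  scEq (mm (MC 16) (FJ j)) (mm (MC (tauN j)) (mm (FJ j) (MC 16))) && Nat.blt (tauN j) 16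

/-- the Sylow 3 data -/
noncomputable def A3 : M9 := mm (mm (MC 18) (MC 19)) (mm (MC 21) (MC 22))
noncomputable def A3i : M9 := mm (mm (MC 19) (MC 18)) (mm (MC 22) (MC 21))
noncomputable def T1 : M9 := mm (mm (MC 18) A3) (mm (MC 21) A3i)
noncomputable def T2 : M9 := mm (mm (MC 19) A3) (mm (MC 22) A3i)

def pw (M : M9) (i : ℕ) : M9 := bif Nat.beq i 0 then ID else bif Nat.beq i 1 then M else mm M M

noncomputable def chkInd (i j : ℕ) : Bool :=
  ((!scalEq ID (mm (mm (pw A3 i) (pw T1 j)) (pw T2 0))) || (Nat.beq i 0 && Nat.beq j 0)) &&
  (!scalEq ID (mm (mm (pw A3 i) (pw T1 j)) (pw T2 1))) &&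
  (!scalEq ID (mm (mm (pw A3 i) (pw T1 j)) (pw T2 2)))

/-- the relations of the Sylow 3-subgroup and of the element of order 8 -/
noncomputable def chk3 : Bool :=
  M9.beq (mm (MC 18) (MC 21)) ID && M9.beq (mm (MC 19) (MC 22)) ID &&
  scEq (mm (MC 18) T1) (mm T1 (MC 18)) && scEq (mm (MC 19) T1) (mm T1 (MC 19)) &&
  scEq (mm (MC 18) T2) (mm T2 (MC 18)) && scEq (mm (MC 19) T2) (mm T2 (MC 19)) &&
  scEq (mm (MC 18) (mm (MC 18) (MC 18))) (mm T2 T2) &&
  scEq (mm (MC 19) (mm (MC 19) (MC 19))) T1 &&
  scEq (mm A3 (mm A3 A3)) ID && scEq (mm T1 (mm T1 T1)) ID && scEq (mm T2 (mm T2 T2)) ID &&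
  scEq (mm A3 A3i) ID

noncomputable def chk8 : Bool :=
  scEq (mm (MC 20) (MC 18))
    (mm (mm (mm (MC 18) (mm (MC 19) (MC 19))) (mm (mm (mm A3 A3) T1) (mm T2 T2))) (MC 20)) &&
  scEq (mm (MC 20) (MC 19)) (mm (mm (mm (MC 18) (MC 19)) T2) (MC 20)) &&
  scEq (mm (MC 20) A3) (mm A3i (MC 20)) &&
  scEq (mm (MC 20) T1) (mm (mm (mm T1 T1) T2) (MC 20)) &&
  scEq (mm (MC 20) T2) (mm (mm (mm T1 T1) (mm T2 T2)) (MC 20))

/-- order 3 and order 2 of the two elements of the 2-local data; orders 5, 17, 19 -/
noncomputable def chkO : Bool :=
  scEq (mm (MC 16) (mm (MC 16) (MC 16))) ID && scEq (mm (MC 17) (MC 17)) ID &&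
  M9.beq (MC 0) ID &&
  scEq (mm (MC 23) (mm (mm (MC 23) (MC 23)) (mm (MC 23) (MC 23)))) ID && (!scalEq ID (MC 23)) &&
  (!scalEq ID (mm Acode Bcode)) && (!scalEq ID (w3c Acode))

end Cfsg.Agent.Lib.Helper37.Mult
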